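import Groth.Agent.Lib.BigEt.Compare
import Groth.Agent.Lib.PullH25.Ext
import Groth.Prelude.Def_BigSite
import Mathlib.Algebra.Homology.DerivedCategory.Ext.ExactSequences

/-!
# Restriction of cohomology classes on big fppf sites
-/

set_option autoImplicit false
universe u

open CategoryTheory CategoryTheory.Limits AlgebraicGeometry Opposite Abelian

set_option backward.isDefEq.respectTransparency.types false

noncomputable section

namespace GrothLib.BigEt.Fppf

/-- Inverse image on big fppf sites. -/
abbrev res {T X : Scheme.{u}} (g : T ⟶ X) : EtFppf.AbF X ⥤ EtFppf.AbF T :=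
  BigSite.pullBig Scheme.fppfPrecoverage g AddCommGrpCat.{u + 1}

instance exactL {T X : Scheme.{u}} (g : T ⟶ X) : PreservesFiniteLimits (res g) :=
  GrothLib.BigEt.preservesFiniteLimits_pullBig g Scheme.fppfPrecoverage

instance exactR {T X : Scheme.{u}} (g : T ⟶ X) : PreservesFiniteColimits (res g) :=
  GrothLib.BigEt.preservesFiniteColimits_pullBig g Scheme.fppfPrecoverage

instance additive_res {T X : Scheme.{u}} (g : T ⟶ X) : (res g).Additive :=
  inferInstanceAs (BigSite.pullBig Scheme.fppfPrecoverage g AddCommGrpCat.{u + 1}).Additive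

theorem injective_res {T X : Scheme.{u}} (g : T ⟶ X) (I : EtFppf.AbF X) [Injective I] :
    Injective ((res g).obj I) :=
  GrothLib.BigEt.injective_pullBig g Scheme.fppfPrecoverage I

/-- The constant sheaf of integers. -/
abbrev Zb (X : Scheme.{u}) : EtFppf.AbF X :=
  (constantSheaf (EtFppf.J X) AddCommGrpCat.{u + 1}).obj (AddCommGrpCat.of (ULift.{u + 1} ℤ))

/-- A class is killed by a morphism. -/
def Killed {T X : Scheme.{u}} (g : T ⟶ X) {A B : EtFppf.AbF X} {n : ℕ} (x : Ext.{u + 1} A B n) : Prop :=
  x.mapExactFunctor (res g) = 0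

section killed

variable {T X : Scheme.{u}} {A B C : EtFppf.AbF X} {n : ℕ}

theorem killed_comp_right {g : T ⟶ X} {x : Ext.{u + 1} A B n} (h : Killed g x) {m p : ℕ}
    (y : Ext.{u + 1} B C m) (hp : n + m = p) : Killed g (x.comp y hp) := by
  rw [Killed, Ext.mapExactFunctor_comp, h, Ext.zero_comp]

theorem killed_comp_left {g : T ⟶ X} {m p : ℕ} (y : Ext.{u + 1} C A m) {x : Ext.{u + 1} A B n}
    (h : Killed g x) (hp : m + n = p) : Killed g (y.comp x hp) := by
  rw [Killed, Ext.mapExactFunctor_comp, h, Ext.comp_zero]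

theorem killed_conj {g : T ⟶ X} {A' B' : EtFppf.AbF X} (e : A' ≅ A) (e' : B ≅ B') {x : Ext.{u + 1} A B n}
    (h : Killed g (((Ext.mk₀ e.hom).comp x (zero_add n)).comp (Ext.mk₀ e'.hom) (add_zero n))) :
    Killed g x := by
  have := killed_comp_right (killed_comp_left (Ext.mk₀ e.inv) h (zero_add n)) (Ext.mk₀ e'.inv) (add_zero n)
  have e1 : ((Ext.mk₀ e.inv).comp (((Ext.mk₀ e.hom).comp x (zero_add n)).comp (Ext.mk₀ e'.hom) (add_zero n))
      (zero_add n)).comp (Ext.mk₀ e'.inv) (add_zero n) = x := by
    simp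
  rwa [e1] at this

theorem killed_iff_comp {W : Scheme.{u}} (g : T ⟶ X) (h : W ⟶ T) (x : Ext.{u + 1} A B n) :
    Killed (h ≫ g) x ↔ (x.mapExactFunctor (res g)).mapExactFunctor (res h) = 0 := by
  haveI : PreservesFiniteLimits (res g ⋙ res h) := comp_preservesFiniteLimits _ _
  haveI : PreservesFiniteColimits (res g ⋙ res h) := comp_preservesFiniteColimits _ _
  let η : res g ⋙ res h ≅ res (h ≫ g) :=
    Scheme.fppfTopology.overMapPullbackComp AddCommGrpCat.{u + 1} h g
  rw [GrothLib.PullH25.mapExactFunctor_mapExactFunctor (res g) (res h) x]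
  have key := GrothLib.PullH25.mapExactFunctor_natTrans (F := res g ⋙ res h) (res (h ≫ g)) η.hom x
  constructor
  · intro hx
    rw [show x.mapExactFunctor (res (h ≫ g)) = 0 from hx, Ext.comp_zero] at key
    have := congrArg (fun z => Ext.comp z (Ext.mk₀ (η.inv.app B)) (add_zero n)) key.symm
    simpa using this
  · intro hx
    show x.mapExactFunctor (res (h ≫ g)) = 0
    rw [hx, Ext.zero_comp] at key
    have := congrArg (fun z => Ext.comp (Ext.mk₀ (η.inv.app A)) z (zero_add n)) key
    simpa using this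

theorem killed_precomp {W : Scheme.{u}} {g : T ⟶ X} (h : W ⟶ T) {x : Ext.{u + 1} A B n} (hx : Killed g x) :
    Killed (h ≫ g) x := by
  rw [killed_iff_comp, show x.mapExactFunctor (res g) = 0 from hx]
  exact Ext.mapExactFunctor_zero (res h) _ _ _

end killed

section sections

variable {X : Scheme.{u}}

/-- The identity as the terminal object. -/
abbrev topF (X : Scheme.{u}) : Over X := Over.mk (𝟙 X)

/-- Maps from the constant sheaf are sections on the whole scheme. -/
def secEquiv (G : EtFppf.AbF X) : (Zb X ⟶ G) ≃+ G.obj.obj (op (topF X)) :=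
  ((constantSheafAdj (EtFppf.J X) AddCommGrpCat.{u + 1}
      (Over.mkIdTerminal : IsTerminal (topF X))).homAddEquiv _ G).trans
    (AddCommGrpCat.uliftZMultiplesAddEquiv _)

theorem secEquiv_comp {G G' : EtFppf.AbF X} (a : Zb X ⟶ G) (φ : G ⟶ G') :
    secEquiv G' (a ≫ φ) = φ.hom.app (op (topF X)) (secEquiv G a) := by
  simp only [secEquiv, AddEquiv.trans_apply, Adjunction.homAddEquiv_apply]
  rw [Adjunction.homEquiv_naturality_right]
  rfl

variable {T : Scheme.{u}} (g : T ⟶ X)

/-- A scheme over another as the base change of the terminal object. -/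
def topPullback : topF T ≅ (Over.pullback g).obj (topF X) :=
  (Over.isoMk (asIso (pullback.snd (𝟙 X) g)) (Category.comp_id _) :
    (Over.pullback g).obj (topF X) ≅ topF T).symm

/-- Maps from the restricted constant sheaf are sections. -/
def secT (H : EtFppf.AbF T) : ((res g).obj (Zb X) ⟶ H) ≃+ H.obj.obj (op (topF T)) :=
  (((BigSite.bigAdj Scheme.fppfPrecoverage g AddCommGrpCat.{u + 1}).homAddEquiv (Zb X) H).trans
    (secEquiv ((BigSite.pushBig Scheme.fppfPrecoverage g AddCommGrpCat.{u + 1}).obj H))).trans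
    (H.obj.mapIso (topPullback g).op).addCommGroupIsoToAddEquiv

theorem secT_comp {H H' : EtFppf.AbF T} (a : (res g).obj (Zb X) ⟶ H) (φ : H ⟶ H') :
    secT g H' (a ≫ φ) = φ.hom.app (op (topF T)) (secT g H a) := by
  simp only [secT, AddEquiv.trans_apply, Adjunction.homAddEquiv_apply]
  rw [Adjunction.homEquiv_naturality_right, secEquiv_comp]
  exact (NatTrans.naturality_apply φ.hom (topPullback g).hom.op _).symm

theorem secT_map {G : EtFppf.AbF X} (a : Zb X ⟶ G) :
    secT g ((res g).obj G) ((res g).map a) =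
      G.obj.map (Over.homMk g : (Over.map g).obj (topF T) ⟶ topF X).op (secEquiv G a) := by
  simp only [secT, AddEquiv.trans_apply, Adjunction.homAddEquiv_apply]
  rw [Adjunction.homEquiv_unit]
  refine (congrArg (fun z => (((res g).obj G).obj.mapIso (topPullback g).op).addCommGroupIsoToAddEquiv
      (secEquiv ((BigSite.pushBig Scheme.fppfPrecoverage g AddCommGrpCat.{u + 1}).obj ((res g).obj G)) z))
    ((BigSite.bigAdj Scheme.fppfPrecoverage g AddCommGrpCat.{u + 1}).unit.naturality a).symm).trans ?_
  refine (congrArg (((res g).obj G).obj.mapIso (topPullback g).op).addCommGroupIsoToAddEquiv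
    (secEquiv_comp a ((BigSite.bigAdj Scheme.fppfPrecoverage g AddCommGrpCat.{u + 1}).unit.app G))).trans ?_
  show G.obj.map ((Over.map g).map (topPullback g).hom).op
    (G.obj.map ((Over.mapPullbackAdj g).counit.app (topF X)).op (secEquiv G a)) = _
  rw [← ConcreteCategory.comp_apply, ← G.obj.map_comp, ← op_comp]
  exact congrArg (fun k => G.obj.map (Quiver.Hom.op k) (secEquiv G a))
    ((Over.mkIdTerminal : IsTerminal (topF X)).hom_ext _ _)

/-- The constant sheaf restricts to the constant sheaf. -/
theorem exists_resZb : Nonempty (Zb T ≅ (res g).obj (Zb X)) := by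
  let a : Zb T ⟶ (res g).obj (Zb X) := (secEquiv _).symm (secT g _ (𝟙 _))
  let b : (res g).obj (Zb X) ⟶ Zb T := (secT g _).symm (secEquiv _ (𝟙 _))
  refine ⟨⟨a, b, (secEquiv _).injective ?_, (secT g _).injective ?_⟩⟩
  · rw [secEquiv_comp, AddEquiv.apply_symm_apply, ← secT_comp, Category.id_comp, AddEquiv.apply_symm_apply]
  · rw [secT_comp, AddEquiv.apply_symm_apply, ← secEquiv_comp, Category.id_comp, AddEquiv.apply_symm_apply]

end sections

end GrothLib.BigEt.Fppf
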