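import Groth.Agent.Lib.BigEt.Fppf.Main
import Groth.Agent.Lib.Cohom.DerivedClass
import Groth.Agent.Lib.Cohom.DimShift

/-!
# Cohomological descent from the etale to the fppf topology
-/

set_option autoImplicit false
universe u

open CategoryTheory CategoryTheory.Limits AlgebraicGeometry Opposite Abelian

set_option backward.isDefEq.respectTransparency.types false
set_option backward.isDefEq.respectTransparency false

noncomputable section

namespace GrothLib.BigEt.Fppf

variable {X X' : Scheme.{u}}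

theorem shortExact_aPush {S : ShortComplex (EtFppf.AbF X)} (hS : S.ShortExact) (h : Acyc 2 S.X₁) :
    (S.map (EtFppf.aPush X)).ShortExact := by
  have h₁ := etale_locallySurjective_of_acyc hS h
  let φ := (BigSite.eps Scheme.etalePrecoverage Scheme.fppfPrecoverage X AddCommGrpCat.{u + 1}).map S.g
  haveI : Sheaf.IsLocallySurjective φ := h₁
  haveI : Epi φ := (Sheaf.isLocallySurjective_iff_epi' AddCommGrpCat.{u + 1} φ).1 ‹_›
  haveI : (BigSite.resEt Scheme.etalePrecoverage X).PreservesEpimorphisms :=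
    preservesEpimorphisms_of_preservesColimitsOfShape _
  have h₂ : Sheaf.IsLocallySurjective ((BigSite.resEt Scheme.etalePrecoverage X).map φ) :=
    (Sheaf.isLocallySurjective_iff_epi' AddCommGrpCat.{u + 1} _).2 inferInstance
  haveI : Sheaf.IsLocallySurjective ((EtFppf.aPush X).map S.g) := ⟨fun {U} s => h₂.imageSieve_mem s⟩
  haveI := hS.mono_f
  haveI : PreservesFiniteLimits (EtFppf.aPush X) :=
    haveI := (EtFppf.aAdj X).rightAdjoint_preservesLimits (G := _)
    inferInstance
  exact { exact := hS.exact.map_of_mono_of_preservesKernel _ inferInstance inferInstance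
          mono_f := inferInstanceAs (Mono ((EtFppf.aPush X).map S.f))
          epi_g := (Sheaf.isLocallySurjective_iff_epi' AddCommGrpCat.{u + 1} ((EtFppf.aPush X).map S.g)).1 ‹_› }

/-- Cohomology in all positive degrees vanishes etale locally. -/
def AcycAll (G : EtFppf.AbF X) : Prop := ∀ q, Acyc q G

theorem acycAll_iso {G G' : EtFppf.AbF X} (e : G ≅ G') (h : AcycAll G) : AcycAll G' :=
  fun q => acyc_of_iso e (h q)

theorem acycAll_X₃ {S : ShortComplex (EtFppf.AbF X)} (hS : S.ShortExact) (hI : Injective S.X₂)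
    (h : AcycAll S.X₁) : AcycAll S.X₃ :=
  fun q => acyc_X₃ hS (h (q + 1))

theorem isZero_RaPush (F : EtCoh.Ab X) (q : ℕ) (hq : 0 < q) :
    IsZero ((EtFppf.RaPush X q).obj ((π X).obj F)) := by
  obtain ⟨n, rfl⟩ := Nat.exists_eq_succ_of_ne_zero hq.ne'
  exact DimShift.isZero_rightDerived_of_class (EtFppf.aPush X) AcycAll (fun e h => acycAll_iso e h)
    (fun S hS hI h => ⟨acycAll_X₃ hS hI h, shortExact_aPush hS (h 2)⟩) _ (fun q => acyc_π_all q F) n

theorem isZero_RpushBig_of_finite (f : X' ⟶ X) [IsFinite f] (F : EtCoh.Ab X') (q : ℕ) (hq : 0 < q) :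
    IsZero ((EtFppf.RpushBig f q).obj ((π X').obj F)) := by
  obtain ⟨n, rfl⟩ := Nat.exists_eq_succ_of_ne_zero hq.ne'
  exact DimShift.isZero_rightDerived_of_class (dir f) AcycAll (fun e h => acycAll_iso e h)
    (fun S hS hI h => ⟨acycAll_X₃ hS hI h, shortExact_dir f hS (h 2)⟩) _ (fun q => acyc_π_all q F) n

theorem nonempty_π_Rpush_of_finite (f : X' ⟶ X) [IsFinite f] (F : EtCoh.Ab X') (q : ℕ) :
    Nonempty ((π X).obj ((EtCoh.Rpush f q).obj F) ≅ (EtFppf.RpushBig f q).obj ((π X').obj F)) := by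
  rcases Nat.eq_zero_or_pos q with rfl | hq
  · haveI : PreservesFiniteLimits (EtCoh.push f) :=
      haveI := (EtCoh.pullPushAdj f).rightAdjoint_preservesLimits (G := _)
      inferInstance
    haveI : PreservesFiniteLimits (EtFppf.pushBig f) := preservesFiniteLimits_dir f
    obtain ⟨e⟩ := nonempty_π_push_iso f F
    exact ⟨(π X).mapIso ((EtCoh.push f).rightDerivedZeroIsoSelf.app F) ≪≫ e ≪≫
      ((EtFppf.pushBig f).rightDerivedZeroIsoSelf.app _).symm⟩
  · exact ⟨(Functor.map_isZero (π X) (EtSite.isZero_Rpush_of_integral f F q hq)).iso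
      (isZero_RpushBig_of_finite f F q hq)⟩

/-- The inverse image of the constant sheaf. -/
def πConstIso (M : AddCommGrpCat.{u + 1}) :
    (π X).obj ((constantSheaf X.smallEtaleTopology AddCommGrpCat.{u + 1}).obj M) ≅
      (constantSheaf (EtFppf.J X) AddCommGrpCat.{u + 1}).obj M :=
  let hT : IsTerminal (EtCoh.top X) := MorphismProperty.Over.mkIdTerminal EtCoh.etaleMP X
  (((constantSheafAdj X.smallEtaleTopology AddCommGrpCat.{u + 1} hT).comp
      (EtFppf.aAdj X)).leftAdjointUniq
    ((constantSheafAdj (EtFppf.J X) AddCommGrpCat.{u + 1}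
      (Over.mkIdTerminal : IsTerminal ((EtFppf.a X).obj (EtCoh.top X)))).ofNatIsoRight (Iso.refl _))).app M

theorem nonempty_H_aPull (F : EtCoh.Ab X) (n : ℕ) :
    Nonempty (EtCoh.H X F n ≃+ EtFppf.HF X ((π X).obj F) n) := by
  let R := EtFppf.aPush X
  haveI : R.Additive := inferInstanceAs (EtFppf.aPush X).Additive
  let e := πConstIso (X := X) (AddCommGrpCat.of (ULift.{u + 1} ℤ))
  let φ : ∀ G : EtFppf.AbF X, (Zb X ⟶ G) ≃+
      ((constantSheaf X.smallEtaleTopology AddCommGrpCat.{u + 1}).obj (AddCommGrpCat.of (ULift.{u + 1} ℤ)) ⟶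
        R.obj G) := fun G =>
    (AddEquiv.mk' e.homFromEquiv.symm fun a b => Preadditive.comp_add _ _ _ _ a b).trans
      ((EtFppf.aAdj X).homAddEquiv _ G)
  obtain ⟨c⟩ := DimShift.nonempty_comparison.{u + 1} R (Zb X) _ AcycAll
    (fun I hI q => haveI := hI; acyc_of_injective q I)
    (fun S hS hI h => ⟨acycAll_X₃ hS hI h, shortExact_aPush hS (h 2)⟩)
    (fun I hI m => by
      haveI := hI
      haveI : Injective (R.obj I) := Injective.injective_of_adjoint (EtFppf.aAdj X) I
      exact Ext.subsingleton_of_injective _ _ _)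
    φ (fun {G G'} g a => by
      show (EtFppf.aAdj X).homEquiv _ _ (e.hom ≫ a ≫ g) = (EtFppf.aAdj X).homEquiv _ _ (e.hom ≫ a) ≫ R.map g
      rw [← Category.assoc, Adjunction.homEquiv_naturality_right]) n
  exact ⟨(((EtCoh.HF X n).mapIso (asIso ((EtFppf.aAdj X).unit.app F))).addCommGroupIsoToAddEquiv).trans
    (c.equiv ((π X).obj F) (fun q => acyc_π_all q F)).symm⟩

end GrothLib.BigEt.Fppf
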