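import Groth.Agent.S1375
import Groth.Agent.S1482
import Groth.Prelude.Def_EtFppf
import Mathlib.AlgebraicGeometry.Morphisms.Finite

/-!
# Fppf coverings are refined by etale neighbourhoods followed by finite flat coverings
-/

set_option autoImplicit false
universe u

open CategoryTheory CategoryTheory.Limits AlgebraicGeometry Opposite

set_option backward.isDefEq.respectTransparency.types false

namespace GrothLib.BigEt.Fppf

theorem exists_etale_finite_refinement {X : Scheme.{u}} (R : Sieve X) (hR : R ∈ Scheme.fppfTopology X) (x : X) :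
    ∃ (V : Scheme.{u}) (v : V ⟶ X) (V' : Scheme.{u}) (f : V' ⟶ V), Etale v ∧ x ∈ Set.range v.base ∧
      IsFinite f ∧ Flat f ∧ LocallyOfFinitePresentation f ∧ Surjective f ∧ R (f ≫ v) := by
  haveI : Scheme.fppfPrecoverage.{u}.HasIsos :=
    ⟨fun {S T} f _ => Scheme.Hom.singleton_mem_fppfPrecoverage f⟩
  haveI : Scheme.fppfPrecoverage.{u}.IsStableUnderComposition := by
    dsimp only [Scheme.fppfPrecoverage]; infer_instance
  haveI : Scheme.fppfPrecoverage.{u}.IsStableUnderBaseChange := by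
    dsimp only [Scheme.fppfPrecoverage]; infer_instance
  obtain ⟨P, hP, hPR⟩ := Precoverage.mem_toGrothendieck_iff_of_isStableUnderComposition.1 hR
  obtain ⟨ι, W, w, rfl⟩ := P.exists_eq_ofArrows
  change Presieve.ofArrows W w ∈ Scheme.precoverage (@Flat ⊓ @LocallyOfFinitePresentation) X at hP
  rw [Scheme.ofArrows_mem_precoverage_iff] at hP
  obtain ⟨i, hi⟩ := hP.1 x
  haveI : Flat (w i) := (hP.2 i).1
  haveI : LocallyOfFinitePresentation (w i) := (hP.2 i).2
  let U₀ : X.Opens := ⟨Set.range (w i).base, (w i).isOpenMap.isOpen_range⟩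
  let g₀ := (w i) ∣_ U₀
  haveI : Flat g₀ := inferInstance
  haveI : LocallyOfFinitePresentation g₀ := inferInstance
  haveI : Surjective g₀ := ⟨fun u => by
    obtain ⟨z, hz⟩ := u.2
    refine ⟨⟨z, show (w i).base z ∈ U₀ from ⟨z, rfl⟩⟩, U₀.ι.isOpenEmbedding.injective ?_⟩
    rw [← Scheme.Hom.comp_apply, morphismRestrict_ι]
    exact hz⟩
  obtain ⟨T, h, hflat, hlfp, hlqf, hsurj, hT⟩ := Groth.Agent.S1375.result g₀
  obtain ⟨t, ht⟩ := h.surjective ⟨x, hi⟩
  obtain ⟨O, r, htO, hr⟩ := hT t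
  let q : (O : Scheme.{u}) ⟶ X := O.ι ≫ h ≫ U₀.ι
  haveI : Flat q := inferInstance
  haveI : LocallyOfFinitePresentation q := inferInstance
  haveI : LocallyQuasiFinite q := inferInstance
  have hq : q.base ⟨t, htO⟩ = x := by
    show U₀.ι.base (h.base t) = x
    rw [ht]
    rfl
  obtain ⟨U, g, u, hg, hgu, J, hJ, V, v, h₁, -, h₃⟩ := Groth.Agent.S1482.result q x (ι := Unit)
    (fun _ => ⟨t, htO⟩) (fun _ _ _ => rfl) (fun _ => hq) (fun _ => q.quasiFiniteAt _)
  obtain ⟨z, hz₁, hz₂⟩ := Scheme.Pullback.exists_preimage_pullback (f := q) (g := g) ⟨t, htO⟩ u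
    (hq.trans hgu.symm)
  obtain ⟨j, -⟩ := h₃ z () hz₂ hz₁
  obtain ⟨hvj, hfin, hvu, -, -, -⟩ := h₁ () j
  let ψ : (V () j : Scheme.{u}) ⟶ U := (V () j).ι ≫ pullback.snd q g
  haveI : IsFinite ψ := hfin
  haveI : Flat (pullback.snd q g) := MorphismProperty.pullback_snd _ _ ‹Flat q›
  haveI : LocallyOfFinitePresentation (pullback.snd q g) :=
    MorphismProperty.pullback_snd _ _ ‹LocallyOfFinitePresentation q›
  haveI : Flat ψ := inferInstance
  haveI : LocallyOfFinitePresentation ψ := inferInstance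
  let U' : U.Opens := ⟨Set.range ψ.base, ψ.isOpenMap.isOpen_range⟩
  let f := ψ ∣_ U'
  haveI : IsFinite f := MorphismProperty.of_isPullback (isPullback_morphismRestrict ψ U').flip ‹IsFinite ψ›
  haveI : Surjective f := ⟨fun y => by
    obtain ⟨a, ha⟩ := y.2
    refine ⟨⟨a, show ψ.base a ∈ U' from ⟨a, rfl⟩⟩, U'.ι.isOpenEmbedding.injective ?_⟩
    rw [← Scheme.Hom.comp_apply, morphismRestrict_ι]
    exact ha⟩
  refine ⟨U', U'.ι ≫ g, _, f, inferInstance, ⟨⟨u, ⟨⟨v () j, hvj⟩, hvu⟩⟩, hgu⟩, inferInstance, inferInstance,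
    inferInstance, inferInstance, ?_⟩
  have key : f ≫ U'.ι ≫ g =
      (((ψ ⁻¹ᵁ U').ι ≫ (V () j).ι ≫ pullback.fst q g) ≫ r ≫ ((w i) ⁻¹ᵁ U₀).ι) ≫ w i := by
    simp only [Category.assoc]
    rw [← morphismRestrict_ι, reassoc_of% hr, pullback.condition, ← Category.assoc f,
      morphismRestrict_ι]
    simp [ψ]
  rw [key]
  exact R.downward_closed (hPR _ _ (Presieve.ofArrows.mk i)) _

end GrothLib.BigEt.Fppf
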