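import Groth.Agent.Lib.BigEt.Fppf.Push
import Groth.Agent.Lib.BigEt.Fppf.Refine
import Groth.Agent.Lib.BigEt.AbProper

/-!
# Cohomology classes of pulled back etale sheaves vanish etale locally on the big fppf site
-/

set_option autoImplicit false
universe u

open CategoryTheory CategoryTheory.Limits AlgebraicGeometry Opposite Abelian

set_option backward.isDefEq.respectTransparency.types false
set_option backward.isDefEq.respectTransparency false

noncomputable section

namespace GrothLib.BigEt.Fppf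

variable {X X' : Scheme.{u}}

/-- Inverse image from the small etale site. -/
abbrev π (X : Scheme.{u}) : EtCoh.Ab X ⥤ EtFppf.AbF X := EtFppf.aPull X

instance additive_π (X : Scheme.{u}) : (π X).Additive := (EtFppf.aAdj X).left_adjoint_additive

instance preservesFiniteColimits_π (X : Scheme.{u}) : PreservesFiniteColimits (π X) :=
  haveI := (EtFppf.aAdj X).leftAdjoint_preservesColimits (G := _)
  inferInstance

instance preservesMonomorphisms_π (X : Scheme.{u}) : (π X).PreservesMonomorphisms :=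
  GrothLib.BigEt.preservesMonomorphisms_sheafPullback (EtFppf.J X) fppf_le_fpqc etale_le_fppf

instance preservesFiniteLimits_π (X : Scheme.{u}) : PreservesFiniteLimits (π X) := by
  haveI := (π X).preservesHomology_of_preservesMonos_and_cokernels
  exact Functor.preservesFiniteLimits_of_preservesHomology _

instance isIso_unit (X : Scheme.{u}) : IsIso (EtFppf.aAdj X).unit :=
  haveI : ∀ F, IsIso ((EtFppf.aAdj X).unit.app F) := fun F =>
    GrothLib.BigEt.isIso_unit_secsAb (EtFppf.J X) fppf_le_fpqc etale_le_fppf F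
  NatIso.isIso_of_isIso_app _

/-- The inverse image is fully faithful. -/
def fullyFaithfulπ (X : Scheme.{u}) : (π X).FullyFaithful := (EtFppf.aAdj X).fullyFaithfulLOfIsIsoUnit

/-- Restriction of an inverse image is an inverse image. -/
def resπ {V : Scheme.{u}} (v : V ⟶ X) : π X ⋙ res v ≅ EtCoh.pull v ⋙ π V :=
  haveI : (Over.pullback v).IsContinuous (EtFppf.J X) (EtFppf.J V) :=
    inferInstanceAs ((Over.pullback v).IsContinuous (QuotSh.J Scheme.fppfPrecoverage X)
      (QuotSh.J Scheme.fppfPrecoverage V))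
  ((EtFppf.aAdj X).comp (dirAdj v)).leftAdjointUniq
    (((EtCoh.pullPushAdj v).comp (EtFppf.aAdj V)).ofNatIsoRight
      (pushPushIso X.smallEtaleTopology V.smallEtaleTopology (EtFppf.J X) (EtFppf.J V) AddCommGrpCat.{u + 1}
        (EtCoh.bc v) (EtFppf.a V) (EtFppf.a X) (Over.pullback v)
        (MorphismProperty.Over.pullbackCompForgetIso (P := EtCoh.etaleMP) (Q := ⊤) v)))

theorem nonempty_π_push_iso (f : X' ⟶ X) [IsProper f] (G : EtCoh.Ab X') :
    Nonempty ((π X).obj ((EtCoh.push f).obj G) ≅ (dir f).obj ((π X').obj G)) := by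
  obtain ⟨ψ, hψ⟩ := exists_isIso_pushCompAb f (EtFppf.J X) (EtFppf.J X') fppf_le_fpqc etale_le_fppf G
  exact ⟨(secsAbIso (EtFppf.J X) fppf_le_fpqc etale_le_fppf).app ((EtCoh.push f).obj G) ≪≫
    ((fullyFaithfulSheafToPresheaf _ _).preimageIso
      (X := (secsAbSheafFunctor (EtFppf.J X) fppf_le_fpqc).obj ((EtCoh.push f).obj G))
      (Y := pushSecsAb f (EtFppf.J X) (EtFppf.J X') fppf_le_fpqc G) (@asIso _ _ _ _ ψ hψ)) ≪≫
    (dir f).mapIso ((secsAbIso (EtFppf.J X') fppf_le_fpqc etale_le_fppf).app G).symm⟩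

theorem mono_unit_dirAdj (f : X' ⟶ X) [Flat f] [LocallyOfFinitePresentation f] [Surjective f]
    (G : EtFppf.AbF X) : Mono ((dirAdj f).unit.app G) := by
  haveI : ∀ U, Mono (((sheafToPresheaf _ _).map ((dirAdj f).unit.app G)).app U) := by
    intro U
    refine (AddCommGrpCat.mono_iff_injective _).2 fun s t hst => ?_
    let c := (Over.mapPullbackAdj f).counit.app U.unop
    have hsh : Presieve.IsSheaf (EtFppf.J X) (G.obj ⋙ forget AddCommGrpCat.{u + 1}) :=
      (isSheaf_iff_isSheaf_of_type _ _).1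
        ((Presheaf.isSheaf_iff_isSheaf_forget _ _ (forget AddCommGrpCat.{u + 1})).1 G.property)
    let R : Sieve U.unop := Sieve.generate (Presieve.singleton c)
    have hR : R ∈ EtFppf.J X U.unop := by
      change Sieve.overEquiv U.unop R ∈ Scheme.fppfTopology U.unop.left
      haveI : Flat (pullback.fst U.unop.hom f) := MorphismProperty.pullback_fst _ _ ‹Flat f›
      haveI : LocallyOfFinitePresentation (pullback.fst U.unop.hom f) :=
        MorphismProperty.pullback_fst _ _ ‹LocallyOfFinitePresentation f›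
      haveI : Surjective (pullback.fst U.unop.hom f) := MorphismProperty.pullback_fst _ _ ‹Surjective f›
      refine GrothendieckTopology.superset_covering _ ?_ (Precoverage.generate_mem_toGrothendieck
        (pullback.fst U.unop.hom f).singleton_mem_fppfPrecoverage)
      rw [Sieve.generate_le_iff]
      rintro _ _ ⟨⟩
      refine (Sieve.overEquiv_iff R _).2 ⟨(Over.pullback f ⋙ Over.map f).obj U.unop, ?_, c,
        Presieve.singleton_self _, ?_⟩
      · exact Over.homMk (𝟙 _) ((Category.id_comp _).trans pullback.condition.symm)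
      · apply Over.OverMorphism.ext
        exact Category.id_comp _
    refine (hsh R hR).isSeparatedFor.ext ?_
    rintro W w ⟨Z, a, b, ⟨⟩, rfl⟩
    simp only [op_comp, Functor.map_comp, ConcreteCategory.comp_apply]
    exact congrArg _ hst
  haveI : Mono ((sheafToPresheaf _ _).map ((dirAdj f).unit.app G)) := NatTrans.mono_of_mono_app _
  exact (sheafToPresheaf _ _).mono_of_mono_map this

theorem killed_of_lift {S : ShortComplex (EtFppf.AbF X)} (hS : S.ShortExact) (a : Zb X ⟶ S.X₃)
    {T : Scheme.{u}} (g : T ⟶ X)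
    (h : (Presheaf.imageSieve S.g.hom (secEquiv S.X₃ a))
      (Over.homMk g : (Over.map g).obj (topF T) ⟶ topF X)) :
    Killed g ((Ext.mk₀ a).comp hS.extClass (zero_add 1)) := by
  obtain ⟨t, ht⟩ := h
  have hSg := hS.map_of_exact (res g)
  let b := (secT g ((res g).obj S.X₂)).symm t
  have hb : b ≫ (res g).map S.g = (res g).map a := by
    apply (secT g ((res g).obj S.X₃)).injective
    rw [secT_comp, secT_map, AddEquiv.apply_symm_apply]
    exact ht
  rw [Killed, Ext.mapExactFunctor_comp, Ext.mapExactFunctor_extClass, Ext.mapExactFunctor_mk₀, ← hb,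
    ← Ext.mk₀_comp_mk₀, Ext.comp_assoc_of_second_deg_zero]
  exact (congrArg (fun z => Ext.comp (Ext.mk₀ b) z (zero_add 1)) hSg.comp_extClass).trans
    (Ext.comp_zero _ _ _ _ _)

theorem exists_killing_sieve : ∀ (n : ℕ) (G : EtFppf.AbF X) (x : Ext.{u + 1} (Zb X) G (n + 1)),
    ∃ R ∈ Scheme.fppfTopology X, ∀ ⦃T : Scheme.{u}⦄ (g : T ⟶ X), R g → Killed g x := by
  intro n
  induction n with
  | zero =>
    intro G x
    obtain ⟨y, rfl⟩ := GrothLib.PullH25.exists_comp_extClass x
    obtain ⟨a, rfl⟩ := (Ext.mk₀_bijective _ _).2 y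
    let p := cokernel.π (Injective.ι G)
    haveI : Sheaf.IsLocallySurjective p :=
      (Sheaf.isLocallySurjective_iff_epi' AddCommGrpCat.{u + 1} p).2 inferInstance
    let R₀ := Presheaf.imageSieve p.hom (secEquiv _ a)
    have hR₀ : R₀ ∈ EtFppf.J X (topF X) := Presheaf.imageSieve_mem _ p.hom _
    refine ⟨Sieve.overEquiv (topF X) R₀, hR₀, fun T g hg => ?_⟩
    refine killed_of_lift (GrothLib.PullH25.injSES_shortExact G) a g ?_
    have h1 := R₀.downward_closed ((Sieve.overEquiv_iff R₀ g).1 hg)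
      (Over.homMk (𝟙 T) (by simp) : (Over.map g).obj (topF T) ⟶ Over.mk (g ≫ (topF X).hom))
    convert h1 using 1
    exact (Over.mkIdTerminal : IsTerminal (topF X)).hom_ext _ _
  | succ n ih =>
    intro G x
    obtain ⟨y, rfl⟩ := GrothLib.PullH25.exists_comp_extClass x
    obtain ⟨R, hR, h⟩ := ih _ y
    exact ⟨R, hR, fun T g hg => killed_comp_right (h g hg) _ _⟩

theorem acyc_π {q : ℕ} (ih : ∀ j, j + 1 < q → ∀ (W : Scheme.{u}) (F : EtCoh.Ab W)
      (x : Ext.{u + 1} (Zb W) ((π W).obj F) (j + 1)), Dies x) (F : EtCoh.Ab X) :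
    Acyc q ((π X).obj F) := by
  intro W g j hj hjq x p
  obtain ⟨i, rfl⟩ := Nat.exists_eq_succ_of_ne_zero hj.ne'
  obtain ⟨V, v, hv, hp, hk⟩ := ih i hjq W ((EtCoh.pull g).obj F)
    (x.comp (Ext.mk₀ ((resπ g).hom.app F)) (add_zero _)) p
  refine ⟨V, v, hv, hp, ?_⟩
  have := killed_comp_right hk (Ext.mk₀ ((resπ g).inv.app F)) (add_zero _)
  simpa using this

theorem dies_of_killed_finite (f : X' ⟶ X) [IsFinite f] [Flat f] [LocallyOfFinitePresentation f] [Surjective f]
    (q : ℕ) (ih : ∀ j < q, ∀ (W : Scheme.{u}) (F : EtCoh.Ab W)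
      (x : Ext.{u + 1} (Zb W) ((π W).obj F) (j + 1)), Dies x)
    (F : EtCoh.Ab X) (x : Ext.{u + 1} (Zb X) ((π X).obj F) (q + 1)) (hx : Killed f x) : Dies x := by
  let H := (res f).obj ((π X).obj F)
  let μ := (dirAdj f).unit.app ((π X).obj F)
  haveI : Mono μ := mono_unit_dirAdj f _
  let β : H ≅ (π X').obj ((EtCoh.pull f).obj F) := (resπ f).app F
  have hH : Acyc (q + 1) H :=
    acyc_of_iso β.symm (acyc_π (fun j hj => ih j (by omega)) _)
  have hμ : x.comp (Ext.mk₀ μ) (add_zero _) = 0 := by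
    refine eq_zero_of_transpose_eq_zero f q H hH _ ?_
    rw [Ext.mapExactFunctor_comp, Ext.mapExactFunctor_mk₀, Ext.comp_assoc_of_third_deg_zero, Ext.mk₀_comp_mk₀,
      show x.mapExactFunctor (res f) = 0 from hx, Ext.zero_comp]
  obtain ⟨ε⟩ := nonempty_π_push_iso f ((EtCoh.pull f).obj F)
  let θ : (dir f).obj H ≅ (π X).obj ((EtCoh.push f).obj ((EtCoh.pull f).obj F)) :=
    (dir f).mapIso β ≪≫ ε.symm
  let η := (fullyFaithfulπ X).preimage (μ ≫ θ.hom)
  have hη : (π X).map η = μ ≫ θ.hom := (fullyFaithfulπ X).map_preimage _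
  haveI : (π X).Faithful := (fullyFaithfulπ X).faithful
  haveI : Mono ((π X).map η) := hη ▸ mono_comp μ θ.hom
  haveI : Mono η := (π X).mono_of_mono_map this
  let S₀ := ShortComplex.mk η (cokernel.π η) (cokernel.condition η)
  have hS₀ : S₀.ShortExact := { exact := ShortComplex.exact_cokernel _ }
  have hS := hS₀.map_of_exact (π X)
  have hx₀ : x.comp (Ext.mk₀ (S₀.map (π X)).f) (add_zero _) = 0 := by
    show x.comp (Ext.mk₀ ((π X).map η)) (add_zero _) = 0
    rw [hη, ← Ext.mk₀_comp_mk₀, ← Ext.comp_assoc_of_third_deg_zero, hμ, Ext.zero_comp]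
  obtain ⟨y, rfl⟩ := Ext.covariant_sequence_exact₁ (Zb X) hS x hx₀ rfl
  obtain rfl | ⟨i, rfl⟩ : q = 0 ∨ ∃ i, q = i + 1 := by
    rcases q with _ | i
    · exact Or.inl rfl
    · exact Or.inr ⟨i, rfl⟩
  · obtain ⟨a, rfl⟩ := (Ext.mk₀_bijective _ _).2 y
    let ψ := (EtFppf.aPush X).map ((π X).map S₀.g)
    haveI : Epi ψ := by
      haveI := hS₀.epi_g
      have e : ψ = inv ((EtFppf.aAdj X).unit.app S₀.X₂) ≫ S₀.g ≫ (EtFppf.aAdj X).unit.app S₀.X₃ := by
        rw [IsIso.eq_inv_comp]
        exact ((EtFppf.aAdj X).unit.naturality S₀.g).symm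
      rw [e]; infer_instance
    haveI : Sheaf.IsLocallySurjective ψ := (Sheaf.isLocallySurjective_iff_epi' AddCommGrpCat.{u + 1} ψ).2 ‹_›
    intro p
    have hR := Presheaf.imageSieve_mem X.smallEtaleTopology ψ.hom (U := op (EtCoh.top X))
      (secEquiv ((π X).obj S₀.X₃) a)
    obtain ⟨W, r, w, hr, hw⟩ := (EtSite.mem_topology_iff _).1 hR p
    refine ⟨W.left, W.hom, W.prop, ⟨w, ?_⟩, killed_of_lift hS a W.hom ?_⟩
    · have e : r.left = W.hom := (Category.comp_id _).symm.trans (EtSec.hom_left r)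
      rw [← e]; exact hw
    · obtain ⟨t, ht⟩ := hr
      have hmem : (Presheaf.imageSieve ((π X).map S₀.g).hom (secEquiv ((π X).obj S₀.X₃) a))
          ((EtFppf.a X).map r) := ⟨t, ht⟩
      have h1 := (Presheaf.imageSieve ((π X).map S₀.g).hom (secEquiv ((π X).obj S₀.X₃) a)).downward_closed hmem
        (Over.homMk (𝟙 W.left) (by simp; rfl) : (Over.map W.hom).obj (topF W.left) ⟶ (EtFppf.a X).obj W)
      have e : (Over.homMk W.hom : (Over.map W.hom).obj (topF W.left) ⟶ topF X) =
          (Over.homMk (𝟙 W.left) (by simp; rfl) : (Over.map W.hom).obj (topF W.left) ⟶ (EtFppf.a X).obj W) ≫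
            (EtFppf.a X).map r := (Over.mkIdTerminal : IsTerminal (topF X)).hom_ext _ _
      show (Presheaf.imageSieve ((π X).map S₀.g).hom (secEquiv ((π X).obj S₀.X₃) a)) _
      exact e ▸ h1
  · intro p
    obtain ⟨V, v, hv, hp, hk⟩ := ih i (Nat.lt_succ_self i) X S₀.X₃ y p
    exact ⟨V, v, hv, hp, killed_comp_right hk _ _⟩

theorem dies_π (q : ℕ) : ∀ (X : Scheme.{u}) (F : EtCoh.Ab X)
    (x : Ext.{u + 1} (Zb X) ((π X).obj F) (q + 1)), Dies x := by
  induction q using Nat.strong_induction_on with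
  | _ q ih =>
    intro X F x p
    obtain ⟨R, hR, hkill⟩ := exists_killing_sieve q _ x
    obtain ⟨V, v, V', f, hv, ⟨z, hz⟩, hfin, hflat, hlfp, hsurj, hRf⟩ := exists_etale_finite_refinement R hR p
    have hx₁ := (killed_iff_comp v f x).1 (hkill _ hRf)
    obtain ⟨e⟩ := exists_resZb v
    let β := (resπ v).app F
    let ξ := ((Ext.mk₀ e.hom).comp (x.mapExactFunctor (res v)) (zero_add _)).comp (Ext.mk₀ β.hom) (add_zero _)
    have hξ : Killed f ξ := killed_comp_right (killed_comp_left _ hx₁ _) _ _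
    obtain ⟨W, w, hw, ⟨z', hz'⟩, hk⟩ := dies_of_killed_finite f q ih ((EtCoh.pull v).obj F) ξ hξ z
    refine ⟨W, w ≫ v, inferInstance, ⟨z', ?_⟩, (killed_iff_comp v w x).2 (killed_conj e β hk)⟩
    show v.base (w.base z') = p
    rw [hz', hz]

theorem acyc_π_all (q : ℕ) (F : EtCoh.Ab X) : Acyc q ((π X).obj F) :=
  acyc_π (fun j _ W F x => dies_π j W F x) F

end GrothLib.BigEt.Fppf
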