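import Groth.Agent.Lib.BigEt.Fppf.Basic
import Groth.Agent.Lib.BigEt.Finite
import Mathlib.CategoryTheory.Sites.EpiMono

/-!
# Finite direct images and etale locally vanishing classes on big fppf sites
-/

set_option autoImplicit false
universe u

open CategoryTheory CategoryTheory.Limits AlgebraicGeometry Opposite Abelian

set_option backward.isDefEq.respectTransparency.types false
set_option backward.isDefEq.respectTransparency false

noncomputable section

namespace GrothLib.BigEt.Fppf

/-- A class vanishes etale locally on the base. -/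
def Dies {X : Scheme.{u}} {A B : EtFppf.AbF X} {n : ℕ} (x : Ext.{u + 1} A B n) : Prop :=
  ∀ p : X, ∃ (V : Scheme.{u}) (v : V ⟶ X), Etale v ∧ p ∈ Set.range v.base ∧ Killed v x

theorem dies_of_eq_zero {X : Scheme.{u}} {A B : EtFppf.AbF X} {n : ℕ} {x : Ext.{u + 1} A B n} (h : x = 0) :
    Dies x := fun p =>
  ⟨X, 𝟙 X, inferInstance, ⟨p, rfl⟩, by subst h; exact Ext.mapExactFunctor_zero (res (𝟙 X)) _ _ _⟩

/-- Cohomology in degrees strictly between zero and `q` vanishes etale locally. -/
def Acyc {X : Scheme.{u}} (q : ℕ) (G : EtFppf.AbF X) : Prop :=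
  ∀ (W : Scheme.{u}) (g : W ⟶ X) (j : ℕ), 0 < j → j < q → ∀ x : Ext.{u + 1} (Zb W) ((res g).obj G) j, Dies x

theorem acyc_of_injective {X : Scheme.{u}} (q : ℕ) (I : EtFppf.AbF X) [Injective I] : Acyc q I := by
  intro W g j hj _ x
  obtain ⟨i, rfl⟩ := Nat.exists_eq_succ_of_ne_zero hj.ne'
  haveI := injective_res g I
  exact dies_of_eq_zero (Ext.eq_zero_of_injective x)

theorem acyc_of_iso {X : Scheme.{u}} {q : ℕ} {G G' : EtFppf.AbF X} (e : G ≅ G') (h : Acyc q G) : Acyc q G' := by
  intro W g j hj hjq x p
  obtain ⟨V, v, hv, hp, hk⟩ := h W g j hj hjq (x.comp (Ext.mk₀ ((res g).map e.inv)) (add_zero j)) p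
  refine ⟨V, v, hv, hp, ?_⟩
  have := killed_comp_right hk (Ext.mk₀ ((res g).map e.hom)) (add_zero j)
  simpa using this

variable {X : Scheme.{u}} {S : ShortComplex (EtFppf.AbF X)} (hS : S.ShortExact)

include hS

theorem acyc_X₃ [Injective S.X₂] {q : ℕ} (h : Acyc (q + 1) S.X₁) : Acyc q S.X₃ := by
  intro W g j hj hjq x p
  have hSg := hS.map_of_exact (res g)
  obtain ⟨V, v, hv, hp, hk⟩ := h W g (j + 1) (by omega) (by omega) (x.comp hSg.extClass rfl) p
  refine ⟨V, v, hv, hp, ?_⟩
  have hSv := hSg.map_of_exact (res v)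
  rw [Killed, Ext.mapExactFunctor_comp, Ext.mapExactFunctor_extClass] at hk
  obtain ⟨y, hy⟩ := Ext.covariant_sequence_exact₃ _ hSv (x.mapExactFunctor (res v)) rfl hk
  haveI : Injective ((res v).obj ((res g).obj S.X₂)) :=
    haveI := injective_res g S.X₂
    injective_res v _
  haveI : Injective ((S.map (res g)).map (res v)).X₂ := this
  obtain ⟨i, rfl⟩ := Nat.exists_eq_succ_of_ne_zero hj.ne'
  show x.mapExactFunctor (res v) = 0
  rw [← hy, Ext.eq_zero_of_injective y, Ext.zero_comp]

theorem etale_locallySurjective_of_acyc (h : Acyc 2 S.X₁) :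
    Presheaf.IsLocallySurjective (QuotSh.J Scheme.etalePrecoverage X) S.g.hom := by
  refine ⟨fun {U} s => GrothLib.BigEt.mem_of_etale _ fun p => ?_⟩
  let g := U.hom
  have hSg := hS.map_of_exact (res g)
  let e : (Over.map g).obj (topF U.left) ≅ U := Over.isoMk (Iso.refl U.left)
    ((Category.id_comp _).trans (Category.id_comp g).symm)
  let s₀ : ((res g).obj S.X₃).obj.obj (op (topF U.left)) := S.X₃.obj.map e.hom.op s
  let a := (secEquiv ((res g).obj S.X₃)).symm s₀
  obtain ⟨V, v, hv, hp, hk⟩ := h U.left g 1 one_pos one_lt_two ((Ext.mk₀ a).comp hSg.extClass rfl) p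
  refine ⟨V, v, hv, hp, ?_⟩
  have hSv := hSg.map_of_exact (res v)
  rw [Killed, Ext.mapExactFunctor_comp, Ext.mapExactFunctor_extClass, Ext.mapExactFunctor_mk₀] at hk
  obtain ⟨y, hy⟩ := Ext.covariant_sequence_exact₃ _ hSv _ rfl hk
  obtain ⟨b, rfl⟩ := (Ext.mk₀_bijective _ _).2 y
  rw [Ext.mk₀_comp_mk₀] at hy
  let t := secT v _ b
  have ht : (S.g.hom.app (op ((Over.map g).obj ((Over.map v).obj (topF V))))) t =
      S.X₃.obj.map ((Over.map g).map (Over.homMk v : (Over.map v).obj (topF V) ⟶ topF U.left) ≫ e.hom).op s := by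
    refine ((secT_comp v b ((res v).map ((res g).map S.g))).symm.trans
      ((congrArg (secT v _) ((Ext.mk₀_bijective _ _).1 hy)).trans (secT_map v a))).trans ?_
    rw [AddEquiv.apply_symm_apply, op_comp, Functor.map_comp, ConcreteCategory.comp_apply]
    rfl
  let k : (Over.map g).obj ((Over.map v).obj (topF V)) ≅ Over.mk (v ≫ U.hom) :=
    Over.isoMk (Iso.refl V) (by simp [g])
  have hmem : (Presheaf.imageSieve S.g.hom s)
      ((Over.map g).map (Over.homMk v : (Over.map v).obj (topF V) ⟶ topF U.left) ≫ e.hom) := ⟨t, ht⟩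
  have := (Presheaf.imageSieve S.g.hom s).downward_closed hmem k.inv
  convert this using 1
  apply Over.OverMorphism.ext
  simp [k, e]

omit hS

variable {X' : Scheme.{u}}

/-- Direct image on big fppf sites. -/
abbrev dir (f : X' ⟶ X) : EtFppf.AbF X' ⥤ EtFppf.AbF X :=
  BigSite.pushBig Scheme.fppfPrecoverage f AddCommGrpCat.{u + 1}

/-- The adjunction between restriction and direct image. -/
abbrev dirAdj (f : X' ⟶ X) : res f ⊣ dir f := BigSite.bigAdj Scheme.fppfPrecoverage f AddCommGrpCat.{u + 1}

theorem injective_dir (f : X' ⟶ X) (I : EtFppf.AbF X') [Injective I] : Injective ((dir f).obj I) :=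
  haveI : (res f).PreservesMonomorphisms := preservesMonomorphisms_of_preservesLimitsOfShape _
  Injective.injective_of_adjoint (dirAdj f) I

instance preservesFiniteLimits_dir (f : X' ⟶ X) : PreservesFiniteLimits (dir f) :=
  haveI := (dirAdj f).rightAdjoint_preservesLimits (G := _)
  inferInstance

theorem pushBig_etale_preservesEpimorphisms (f : X' ⟶ X) [IsFinite f] :
    (BigSite.pushBig Scheme.etalePrecoverage f AddCommGrpCat.{u + 1}).PreservesEpimorphisms := by
  refine ⟨fun {F G} φ _ => ?_⟩
  refine Preadditive.epi_of_isZero_cokernel _ (isZero_of_resEtAlong _ fun S' g => ?_)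
  let P := BigSite.pushBig Scheme.etalePrecoverage f AddCommGrpCat.{u + 1}
  let R := BigSite.resEtAlong Scheme.etalePrecoverage g
  refine IsZero.of_iso ?_ (PreservesCokernel.iso R (P.map φ))
  haveI : IsFinite (pullback.snd f g) := MorphismProperty.pullback_snd f g ‹IsFinite f›
  haveI : (EtCoh.push (pullback.snd f g)).PreservesHomology := EtSite.preservesHomology_push _
  haveI : (EtCoh.push (pullback.snd f g)).PreservesEpimorphisms := inferInstance
  haveI : (BigSite.resEtAlong Scheme.etalePrecoverage (pullback.fst f g)).PreservesEpimorphisms :=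
    preservesEpimorphisms_of_preservesColimitsOfShape _
  let e := resEtAlongPushBigIso f g (pullback.fst f g) (pullback.snd f g) (IsPullback.of_hasPullback f g)
  haveI : Epi ((BigSite.resEtAlong Scheme.etalePrecoverage (pullback.fst f g) ⋙
      EtCoh.push (pullback.snd f g)).map φ) :=
    inferInstanceAs (Epi ((EtCoh.push (pullback.snd f g)).map
      ((BigSite.resEtAlong Scheme.etalePrecoverage (pullback.fst f g)).map φ)))
  haveI : Epi (R.map (P.map φ)) := by
      rw [show R.map (P.map φ) = e.hom.app F ≫ ((BigSite.resEtAlong Scheme.etalePrecoverage (pullback.fst f g) ⋙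
        EtCoh.push (pullback.snd f g)).map φ) ≫ e.inv.app G from by
          rw [← Category.assoc, ← e.hom.naturality φ, Category.assoc, Iso.hom_inv_id_app]
          exact (Category.comp_id _).symm]
      infer_instance
  exact isZero_cokernel_of_epi _

theorem shortExact_dir (f : X' ⟶ X) [IsFinite f] {S : ShortComplex (EtFppf.AbF X')} (hS : S.ShortExact)
    (h : Acyc 2 S.X₁) : (S.map (dir f)).ShortExact := by
  have h₁ := etale_locallySurjective_of_acyc hS h
  haveI : BigSite.EpsCont Scheme.etalePrecoverage Scheme.fppfPrecoverage X' := inferInstance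
  let φ := (BigSite.eps Scheme.etalePrecoverage Scheme.fppfPrecoverage X' AddCommGrpCat.{u + 1}).map S.g
  haveI : Sheaf.IsLocallySurjective φ := h₁
  haveI : Epi φ := (Sheaf.isLocallySurjective_iff_epi' AddCommGrpCat.{u + 1} φ).1 ‹_›
  haveI := pushBig_etale_preservesEpimorphisms f
  have h₂ : Sheaf.IsLocallySurjective ((BigSite.pushBig Scheme.etalePrecoverage f AddCommGrpCat.{u + 1}).map φ) :=
    (Sheaf.isLocallySurjective_iff_epi' AddCommGrpCat.{u + 1} _).2 inferInstance
  haveI : Sheaf.IsLocallySurjective ((dir f).map S.g) :=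
    ⟨fun {U} s => GrothLib.BigEt.etale_le_fppf _ (h₂.imageSieve_mem s)⟩
  haveI := hS.mono_f
  exact { exact := hS.exact.map_of_mono_of_preservesKernel _ inferInstance inferInstance
          mono_f := inferInstanceAs (Mono ((dir f).map S.f))
          epi_g := (Sheaf.isLocallySurjective_iff_epi' AddCommGrpCat.{u + 1} ((dir f).map S.g)).1 ‹_› }

/-- Classes with values in a finite direct image are detected upstairs. -/
theorem eq_zero_of_transpose_eq_zero (f : X' ⟶ X) [IsFinite f] : ∀ (q : ℕ) (H : EtFppf.AbF X'),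
    Acyc (q + 1) H → ∀ x : Ext.{u + 1} (Zb X) ((dir f).obj H) (q + 1),
      (x.mapExactFunctor (res f)).comp (Ext.mk₀ ((dirAdj f).counit.app H)) (add_zero (q + 1)) = 0 → x = 0 := by
  intro q
  induction q with
  | zero =>
    intro H _ x hx
    have hH := GrothLib.PullH25.injSES_shortExact H
    let SH := ShortComplex.mk (Injective.ι H) (cokernel.π (Injective.ι H)) (cokernel.condition _)
    haveI : Mono ((dir f).map SH.f) := inferInstance
    let C := ShortComplex.mk ((dir f).map SH.f) (cokernel.π ((dir f).map SH.f)) (cokernel.condition _)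
    have hC : C.ShortExact := { exact := ShortComplex.exact_cokernel _ }
    haveI : Injective C.X₂ := injective_dir f (Injective.under H)
    obtain ⟨y, hy⟩ := Ext.covariant_sequence_exact₁ (Zb X) hC x (Ext.eq_zero_of_injective _) rfl
    obtain ⟨a, rfl⟩ := (Ext.mk₀_bijective _ _).2 y
    let κ : C.X₃ ⟶ (dir f).obj SH.X₃ := cokernel.desc _ ((dir f).map SH.g)
      (by rw [← Functor.map_comp, SH.zero, Functor.map_zero])
    haveI : Mono κ := by
      have hex : (SH.map (dir f)).Exact :=
        hH.exact.map_of_mono_of_preservesKernel _ hH.mono_f inferInstance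
      exact ((SH.map (dir f)).exact_iff_mono_cokernel_desc).1 hex
    let τ : C.map (res f) ⟶ SH :=
      { τ₁ := (dirAdj f).counit.app SH.X₁
        τ₂ := (dirAdj f).counit.app SH.X₂
        τ₃ := (res f).map κ ≫ (dirAdj f).counit.app SH.X₃
        comm₁₂ := ((dirAdj f).counit.naturality SH.f).symm
        comm₂₃ := ((dirAdj f).counit.naturality SH.g).symm.trans (by
          rw [← Category.assoc]
          refine congrArg (· ≫ _) ?_
          show (res f).map ((dir f).map SH.g) = (res f).map C.g ≫ (res f).map κ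
          rw [← Functor.map_comp]
          exact congrArg (res f).map (cokernel.π_desc _ _ _).symm) }
    rw [← hy, Ext.mapExactFunctor_comp, Ext.mapExactFunctor_extClass, Ext.mapExactFunctor_mk₀,
      Ext.comp_assoc_of_third_deg_zero] at hx
    have key : ((hC.map_of_exact (res f)).extClass).comp (Ext.mk₀ τ.τ₁) (add_zero 1) =
        (Ext.mk₀ τ.τ₃).comp hH.extClass (zero_add 1) :=
      ShortComplex.ShortExact.extClass_naturality (hC.map_of_exact (res f)) hH τ
    erw [key] at hx
    rw [← Ext.comp_assoc_of_second_deg_zero, Ext.mk₀_comp_mk₀] at hx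
    obtain ⟨z, hz⟩ := Ext.covariant_sequence_exact₃ _ hH _ rfl hx
    obtain ⟨b, rfl⟩ := (Ext.mk₀_bijective _ _).2 z
    rw [Ext.mk₀_comp_mk₀] at hz
    have hb := (Ext.mk₀_bijective _ _).1 hz
    let b' := (dirAdj f).homEquiv _ _ b
    have ha : a = b' ≫ C.g := by
      rw [← cancel_mono κ, Category.assoc]
      refine Eq.trans ?_ (congrArg (b' ≫ ·) (cokernel.π_desc _ _ _).symm)
      apply ((dirAdj f).homEquiv _ _).symm.injective
      rw [(dirAdj f).homEquiv_counit, Functor.map_comp, Category.assoc,
        (dirAdj f).homEquiv_naturality_right_symm, Equiv.symm_apply_apply]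
      exact hb.symm
    rw [← hy, ha, ← Ext.mk₀_comp_mk₀, Ext.comp_assoc_of_second_deg_zero, hC.comp_extClass, Ext.comp_zero]
  | succ q ih =>
    intro H hH' x hx
    have hH := GrothLib.PullH25.injSES_shortExact H
    let SH := ShortComplex.mk (Injective.ι H) (cokernel.π (Injective.ι H)) (cokernel.condition _)
    have hD : (SH.map (dir f)).ShortExact :=
      shortExact_dir f hH (fun W g j hj hjq => hH' W g j hj (by omega))
    haveI : Injective (SH.map (dir f)).X₂ := injective_dir f (Injective.under H)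
    obtain ⟨y, hy⟩ := Ext.covariant_sequence_exact₁ (Zb X) hD x (Ext.eq_zero_of_injective _) rfl
    let τ : (SH.map (dir f)).map (res f) ⟶ SH :=
      { τ₁ := (dirAdj f).counit.app SH.X₁
        τ₂ := (dirAdj f).counit.app SH.X₂
        τ₃ := (dirAdj f).counit.app SH.X₃
        comm₁₂ := ((dirAdj f).counit.naturality SH.f).symm
        comm₂₃ := ((dirAdj f).counit.naturality SH.g).symm }
    haveI : Injective SH.X₂ := inferInstanceAs (Injective (Injective.under H))
    suffices hy0 : y = 0 by rw [← hy, hy0, Ext.zero_comp]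
    refine ih _ (acyc_X₃ hH hH') y ?_
    rw [← hy, Ext.mapExactFunctor_comp, Ext.mapExactFunctor_extClass, Ext.comp_assoc_of_third_deg_zero] at hx
    have key : ((hD.map_of_exact (res f)).extClass).comp (Ext.mk₀ τ.τ₁) (add_zero 1) =
        (Ext.mk₀ τ.τ₃).comp hH.extClass (zero_add 1) :=
      ShortComplex.ShortExact.extClass_naturality (hD.map_of_exact (res f)) hH τ
    erw [key] at hx
    rw [← Ext.comp_assoc_of_second_deg_zero] at hx
    obtain ⟨z, hz⟩ := Ext.covariant_sequence_exact₃ _ hH _ rfl hx
    rw [← hz, Ext.eq_zero_of_injective z, Ext.zero_comp]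

end GrothLib.BigEt.Fppf
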